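import Cfsg.Agent.H532.PNormTwo.Fi22Chk

/-!
# S4547, the row `Fi22`: counts for an element of order seven (helper281)

The 7-cycle `a b c d e f` of the symmetric group generated by `a`, …, `f`: it fixes 3 of the 3510 transpositions and
moves 819 of them to transpositions commuting with them; `a c d c b f e` conjugates it to its cube.
-/

set_option autoImplicit false

namespace Cfsg.Agent.H281.K547.FiTwo

open Cfsg.Agent.Fischer.Cert Cfsg.Agent.Fischer.Data22 Cfsg.Agent.H532.PNormTwo Cfsg.Agent.H532.PNormTwo.Fi22

/-- the element of order 7 -/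
noncomputable def xs (y : ℕ) : ℕ := nx .a (nx .b (nx .c (nx .d (nx .e (nx .f y)))))

/-- the conjugating element -/
noncomputable def xw (y : ℕ) : ℕ := nx .a (nx .c (nx .d (nx .c (nx .b (nx .f (nx .e y))))))

noncomputable def gA (y : ℕ) : Bool := force y fun y => force (xs y) fun z => bite (Nat.beq y z) false (cm 3510 y z)

noncomputable def gP (y : ℕ) : Bool := force y fun y => Nat.beq (xs y) y

noncomputable def gO (y : ℕ) : Bool := force y fun y => force (xs (xs (xs y))) fun z =>
  Nat.beq (xs (xs (xs (xs z)))) y

noncomputable def gW (y : ℕ) : Bool := force y fun y => force (xw (xs y)) fun z =>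
  force (xw y) fun u => Nat.beq z (xs (xs (xs u)))

theorem chkA : Nat.beq (sumG 54 65 fun y => b2n (gA y)) 819 = true := by decide +kernel
theorem chkP : Nat.beq (sumG 54 65 fun y => b2n (gP y)) 3 = true := by decide +kernel
theorem chkO : allGrid 54 65 gO = true := by decide +kernel
theorem chkW : allGrid 54 65 gW = true := by decide +kernel

end Cfsg.Agent.H281.K547.FiTwo
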