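import Cfsg.Agent.H281.K547.Ext2
import Cfsg.Agent.H151.K547.D3Rows
import Cfsg.Agent.KFacts.FiTT.Final

/-!
# S4547, the row `Fi22`: the Sylow 2-subgroups need three generators (helper281)

`d`, `d'` commuting transpositions: `C(d d')` has odd index and contains the perfect group `C(d, d')` with index 2, which
maps onto `PSU(4, 2)`.
-/

set_option autoImplicit false

namespace Cfsg.Agent.H281.K547

open Subgroup Cfsg Cfsg.Agent.H821.K547 Cfsg.Agent.H151.K547

universe u v

theorem d3_of_surj {G : Type u} {Y : Type v} [Group G] [Group Y] [Finite G] [Finite Y] (f : G →* Y)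
    (hf : Function.Surjective f) (h : D3 Y) : D3 G := by
  intro P
  have : Fact (Nat.Prime 2) := ⟨Nat.prime_two⟩
  obtain ⟨g, hg⟩ := h (P.mapSurjective hf)
  let e : ↥(P : Subgroup G) →* ↥((P.mapSurjective hf : Sylow 2 Y) : Subgroup Y) :=
    { toFun := fun x => ⟨f (x : G), ⟨(x : G), x.2, rfl⟩⟩
      map_one' := Subtype.ext (map_one f)
      map_mul' := fun x y => Subtype.ext (map_mul f (x : G) (y : G)) }
  refine ⟨g.comp e, hg.comp ?_⟩
  rintro ⟨_, ⟨x, hx, rfl⟩⟩
  exact ⟨⟨x, hx⟩, rfl⟩

variable {K : Type u} [Group K]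

/-- **`D3` for `Fi22`** -/
theorem d3_fi22 (h : Spor.IsoFi22 K) : D3 K := by
  obtain ⟨d, d', R, F⟩ := KFacts.FiTT.has_of_iso h
  have hfin : Finite K := Nat.finite_of_card_ne_zero (by rw [F.card]; norm_num)
  let C : Subgroup K := centralizer ({d, d'} : Set K)
  let M : Subgroup K := centralizer ({d * d'} : Set K)
  have hC : ∀ x, x ∈ C ↔ x * d = d * x ∧ x * d' = d' * x := by
    intro x
    rw [mem_centralizer_iff]
    constructor
    · intro h1
      exact ⟨(h1 d (by simp)).symm, (h1 d' (by simp)).symm⟩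
    · rintro ⟨h1, h2⟩ y (rfl | rfl)
      · exact h1.symm
      · exact h2.symm
  have hM : ∀ x, x ∈ M ↔ x * (d * d') = d * d' * x := fun x => mem_centralizer_singleton_iff
  have hCM : C ≤ M := by
    intro x hx
    obtain ⟨h1, h2⟩ := (hC x).1 hx
    rw [hM, ← mul_assoc, h1, mul_assoc, h2, mul_assoc]
  obtain ⟨p, hp1, hp2⟩ := F.swap
  have hpM : p ∈ M := by
    rw [hM]
    have e1 : p * d = d' * p := by rw [← hp1]; group
    have e2 : p * d' = d * p := by rw [← hp2]; group
    rw [← mul_assoc, e1, mul_assoc, e2, ← mul_assoc, F.comm]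
  have hpC : p ∉ C := by
    intro h1
    have h2 := ((hC p).1 h1).1
    apply F.ne
    rw [← hp1, h2]
    group
  -- `C` is normal of index 2 in `M`
  have hcz : ∀ x : M, (x : K) ∈ C ∨ ((x : K) * d * (x : K)⁻¹ = d' ∧ (x : K) * d' * (x : K)⁻¹ = d) := by
    intro x
    rcases F.cz x ((hM x).1 x.2) with h1 | h1
    · exact Or.inl ((hC x).2 h1)
    · exact Or.inr h1
  let N : Subgroup M := C.subgroupOf M
  have hi : N.index = 2 := by
    rw [index_eq_two_iff]
    refine ⟨⟨p, hpM⟩, fun x => ?_⟩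
    have h0 : x * ⟨p, hpM⟩ ∈ N ↔ (x : K) * p ∈ C := mem_subgroupOf
    have h0' : x ∈ N ↔ (x : K) ∈ C := mem_subgroupOf
    rw [h0, h0']
    rcases hcz x with h1 | ⟨h1, h2⟩
    · refine Or.inr ⟨h1, fun h2 => hpC ?_⟩
      have := C.mul_mem (C.inv_mem h1) h2
      rwa [← mul_assoc, inv_mul_cancel, one_mul] at this
    · refine Or.inl ⟨?_, fun h3 => ?_⟩
      · rw [hC]
        have e1 : p * d = d' * p := by rw [← hp1]; group
        have e2 : p * d' = d * p := by rw [← hp2]; group
        have e3 : (x : K) * d' = d * x := by rw [← h2]; group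
        have e4 : (x : K) * d = d' * x := by rw [← h1]; group
        constructor
        · rw [mul_assoc, e1, ← mul_assoc, e3, mul_assoc]
        · rw [mul_assoc, e2, ← mul_assoc, e4, mul_assoc]
      · apply F.ne
        rw [← h1, ((hC x).1 h3).1]
        group
  have hN : N.Normal := normal_of_index_eq_two hi
  let e : ↥N ≃* ↥C :=
    { toFun := fun x => ⟨(x : M), x.2⟩
      invFun := fun x => ⟨⟨x, hCM x.2⟩, x.2⟩
      left_inv := fun _ => rfl
      right_inv := fun _ => rfl
      map_mul' := fun _ _ => rfl }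
  have hperf : commutator N = ⊤ := by
    have h1 : commutator C = ⊤ := F.perfect
    have h3 : (⊤ : Subgroup C).map e.symm.toMonoidHom = ⊤ := by
      rw [← MonoidHom.range_eq_map]
      exact MonoidHom.range_eq_top.2 e.symm.surjective
    have h2 := map_commutator (⊤ : Subgroup C) ⊤ e.symm.toMonoidHom
    rw [← commutator_def, h1, h3, ← commutator_def] at h2
    exact h2.symm
  obtain ⟨F4, _, _, hF4, f, hf, -⟩ := F.quoR
  have hch : CharP F4 2 := by
    obtain ⟨p, hp⟩ := CharP.exists F4
    have hpr := CharP.char_is_prime F4 p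
    obtain ⟨n, hn1, hn2⟩ := FiniteField.card F4 p
    rw [hF4] at hn2
    have : p ∣ 2 ^ 2 := by
      norm_num
      rw [hn2]
      exact dvd_pow_self p n.ne_zero
    rw [(Nat.prime_dvd_prime_iff_eq hpr Nat.prime_two).1 (hpr.dvd_of_dvd_pow this)] at hp
    exact hp
  have hD : D3 (PSU 4 F4 2) := D3_psu (N := 4) (by rw [hF4]; norm_num) (Or.inl rfl)
  have hfinP : Finite (PSU 4 F4 2) := inferInstance
  have h1 : D3 N := d3_of_surj (f.comp e.toMonoidHom) (hf.comp e.surjective) hD
  have h2 : D3 M := d3_of_perfect N hi hperf h1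
  -- odd index
  intro P
  have : Fact (Nat.Prime 2) := ⟨Nat.prime_two⟩
  obtain ⟨Q⟩ : Nonempty (Sylow 2 M) := inferInstance
  have hidx : ¬ 2 ∣ ((Q : Subgroup M).map M.subtype).index := by
    rw [index_map_subtype, Nat.prime_two.dvd_mul]
    rintro (h3 | h3)
    · exact Q.not_dvd_index h3
    · exact (Nat.not_even_iff_odd.2 F.odd) (even_iff_two_dvd.2 h3)
  have hrk : Rk 3 ↥((Q : Subgroup M).map M.subtype) :=
    rk_congr ((Q : Subgroup M).equivMapOfInjective _ M.subtype_injective).symm (h2 Q)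
  exact D3_of_subgroup (Q.2.map _) hidx hrk P

end Cfsg.Agent.H281.K547
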