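import Cfsg.Agent.H281.K547.FiTwoRow
import Cfsg.Agent.H714.Fi22.Row

/-!
# S4547, the row `Fi22` (helper281)
-/

set_option autoImplicit false

namespace Cfsg.Agent.H281.K547

open Cfsg Cfsg.Agent.H821.K547

universe u

/-- **the row `Fi22` of S4547** -/
theorem row_fi22 {S : Type u} [Group S] (h : Spor.IsoFi22 S) : Row S :=
  row_fi22_of h (H714.Fi22.Row.good5_fi22 h)

end Cfsg.Agent.H281.K547
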