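import Cfsg.Agent.H281.K547.FiTwoChk
import Cfsg.Agent.H532.PNormTwo.Fi22
import Cfsg.Agent.H825.K547.Par
import Cfsg.Agent.H834.K547.Par

/-!
# S4547, the row `Fi22`: three invariant good characters (helper281)

The rank 3 character of degree 429 is rational, invariant under all automorphisms and has the value 2 at the elements of
order 7.
-/

set_option autoImplicit false

namespace Cfsg.Agent.H281.K547.FiTwo

open Cfsg Cfsg.Agent.Fischer.Cert Cfsg.Agent.Fischer.Data22 Cfsg.Agent.Fischer.Check22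
  Cfsg.Agent.Fischer.Abstract Cfsg.Agent.Fischer.Centralizer
  Cfsg.Agent.Fischer.Group22 Cfsg.Agent.Fischer.Rank22 Cfsg.Agent.Fischer.Unit22
open Cfsg.Agent.H690.Spor.RankThree Cfsg.Agent.H690.Spor.RankThree.R3
open Cfsg.Agent.H532.PNormTwo Cfsg.Agent.H532.PNormTwo.Fi22
open Cfsg.Agent.H821.K547 Cfsg.Agent.H601.K4

universe u

/-- the element of order 7 -/
noncomputable def t7 : G := g .a * g .b * g .c * g .d * g .e * g .f

/-- it conjugates `t7` to its cube -/
noncomputable def w7 : G := g .a * g .c * g .d * g .c * g .b * g .f * g .e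

theorem t7_smul (y : X) : ((t7 • y : X) : ℕ) = xs y := by
  unfold t7 xs
  rw [mul_smul, mul_smul, mul_smul, mul_smul, mul_smul, g_smul, g_smul, g_smul, g_smul, g_smul, g_smul]

theorem w7_smul (y : X) : ((w7 • y : X) : ℕ) = xw y := by
  unfold w7 xw
  rw [mul_smul, mul_smul, mul_smul, mul_smul, mul_smul, mul_smul, g_smul, g_smul, g_smul, g_smul, g_smul, g_smul,
    g_smul]

theorem t7_pow : t7 ^ 7 = 1 := by
  have hfaith := Cfsg.Agent.Fischer.Even22.faithful
  refine FaithfulSMul.eq_of_smul_eq_smul (α := X) fun y => ?_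
  rw [one_smul]
  have h1 : (t7 ^ 7 : G) = t7 * (t7 * (t7 * (t7 * (t7 * (t7 * t7))))) := by
    rw [pow_succ', pow_succ', pow_succ', pow_succ', pow_succ', pow_succ', pow_one]
  rw [h1]
  apply Fin.ext
  simp only [mul_smul, t7_smul]
  have h2 := allGrid_spec chkO (y : ℕ) y.2
  unfold gO at h2
  rw [force_eq, force_eq] at h2
  exact natBeq_iff.1 h2

theorem w7_conj : w7 * t7 = t7 * (t7 * t7) * w7 := by
  have hfaith := Cfsg.Agent.Fischer.Even22.faithful
  refine FaithfulSMul.eq_of_smul_eq_smul (α := X) fun y => ?_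
  apply Fin.ext
  simp only [mul_smul, t7_smul, w7_smul]
  have h2 := allGrid_spec chkW (y : ℕ) y.2
  unfold gW at h2
  rw [force_eq, force_eq, force_eq] at h2
  exact natBeq_iff.1 h2

theorem card_al : Nat.card {y : X // CR R y (t7 • y)} = 819 := by
  refine card_of_sum _ gA (fun y => ?_) ?_
  · unfold gA
    rw [force_eq, force_eq, bite_false_left, ← t7_smul, cm_spec 3510 y (t7 • y) y.2.le]
    unfold CR
    refine and_congr_left fun _ => ?_
    rw [ne_eq, ne_eq, natBeq_iff, Fin.ext_iff]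
  · exact (sumG_eq 54 65 fun y => b2n (gA y)).symm.trans (natBeq_iff.1 chkA)

theorem card_pi : Nat.card (MulAction.fixedBy X t7) = 3 := by
  refine card_of_sum (fun y => y ∈ MulAction.fixedBy X t7) gP (fun y => ?_) ?_
  · unfold gP
    rw [force_eq, natBeq_iff, ← t7_smul, MulAction.mem_fixedBy, Fin.ext_iff]
  · exact (sumG_eq 54 65 fun y => b2n (gP y)).symm.trans (natBeq_iff.1 chkP)

theorem finG : Finite G := Nat.finite_of_card_ne_zero (by rw [Cfsg.Agent.Fischer.Order22.card_G]; norm_num)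

open Classical in
/-- **the character of degree 429** -/
theorem exists_chi : ∃ χ : IrrCharacter G, ∀ x : G, 72 * (χ : G → ℂ) x =
    (Nat.card {y : X // CR R y (x • y)} : ℂ) + 9 * (Nat.card (MulAction.fixedBy X x) : ℂ) - 702 := by
  have hfin : Finite G := finG
  have hab := Cfsg.Agent.H442.RankVal.params (h := r3) (x₀ := R.x0) (y₀ := R.c)
    ⟨fun h => R.c_ne_x0 h.symm, R.com_x0_c⟩ (a := 180) (b := 126) card_l (by norm_num)
  obtain ⟨χ, hχ⟩ := Cfsg.Agent.H305.RankVal.exists_char r3 hab (r := 63) (s := -9) (by norm_num) (by norm_num)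
    (by norm_num) (by norm_num) (by norm_num)
  refine ⟨χ, fun x => ?_⟩
  have h1 := hχ x
  have h2 : (63 : ℂ) - -9 = 72 := by norm_num
  rw [h2] at h1
  rw [h1]
  push_cast
  ring

variable {χ : IrrCharacter G} (hχ : ∀ x : G, 72 * (χ : G → ℂ) x =
    (Nat.card {y : X // CR R y (x • y)} : ℂ) + 9 * (Nat.card (MulAction.fixedBy X x) : ℂ) - 702)

include hχ

theorem chi_rat (x : G) : ∃ q : ℚ, (χ : G → ℂ) x = q := by
  refine ⟨((Nat.card {y : X // CR R y (x • y)} : ℚ) + 9 * (Nat.card (MulAction.fixedBy X x) : ℚ) - 702) / 72, ?_⟩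
  have h1 := hχ x
  push_cast
  rw [← h1]
  ring

theorem chi_one : (χ : G → ℂ) 1 = 429 := by
  have h1 := hχ 1
  have h2 : Nat.card {y : X // CR R y ((1 : G) • y)} = 0 := by
    rw [Nat.card_eq_zero]
    left
    constructor
    rintro ⟨y, hy⟩
    rw [one_smul] at hy
    exact hy.1 rfl
  have h3 : Nat.card (MulAction.fixedBy X (1 : G)) = 3510 := by
    have h4 : MulAction.fixedBy X (1 : G) = Set.univ := by
      ext y
      simp
    rw [h4, Nat.card_univ, Nat.card_eq_fintype_card, Fintype.card_fin]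
  rw [h2, h3] at h1
  push_cast at h1
  linear_combination h1 / 72

theorem chi_t7 : (χ : G → ℂ) t7 = 2 := by
  have h1 := hχ t7
  rw [card_al, card_pi] at h1
  push_cast at h1
  linear_combination h1 / 72

theorem chi_good : Good (χ : G → ℂ) := by
  have hfin : Finite G := finG
  refine H740.K4.good_of_rat χ.2 (chi_rat hχ) ?_
  have h1 := Cfsg.Agent.Blocks.Basic.charDegree_of_eq (χ := (χ : G → ℂ)) (n := 429) (by
    rw [chi_one hχ]
    norm_num)
  rw [h1]
  decide

theorem chi_inv (β : MulAut G) (x : G) : (χ : G → ℂ) (β x) = (χ : G → ℂ) x := by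
  obtain ⟨σ, -, h2, h3⟩ := exists_sigma R β (aut β)
  have e1 : Nat.card {y : X // CR R y (β x • y)} = Nat.card {y : X // CR R y (x • y)} := by
    refine (Nat.card_congr ?_).symm
    refine σ.subtypeEquiv fun y => ?_
    rw [← h2, h3]
  have e2 : Nat.card (MulAction.fixedBy X (β x)) = Nat.card (MulAction.fixedBy X x) := by
    refine (Nat.card_congr ?_).symm
    refine σ.subtypeEquiv fun y => ?_
    rw [MulAction.mem_fixedBy, MulAction.mem_fixedBy, ← h2, σ.injective.eq_iff]
  have h4 := hχ (β x)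
  have h5 := hχ x
  rw [e1, e2] at h4
  have h6 : (72 : ℂ) * (χ : G → ℂ) (β x) = 72 * (χ : G → ℂ) x := by rw [h4, h5]
  exact mul_left_cancel₀ (by norm_num) h6

end Cfsg.Agent.H281.K547.FiTwo

namespace Cfsg.Agent.H281.K547

open Subgroup

universe u

/-- all elements of order 7 are conjugate if the Sylow 7-subgroups have order 7 and one is cubed by an element -/
theorem isConj_seven {G : Type*} [Group G] [Finite G] {t w : G} (ht : orderOf t = 7) (hw : w * t = t * (t * t) * w)
    {m : ℕ} (hm : Nat.card G = 7 ^ 1 * m) (hm7 : ¬ 7 ∣ m) {y : G} (hy : orderOf y = 7) : IsConj t y := by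
  classical
  have : Fact (Nat.Prime 7) := ⟨by norm_num⟩
  have hm0 : m ≠ 0 := fun h => hm7 (by rw [h]; exact dvd_zero 7)
  have hfac : 7 ^ (Nat.card G).factorization 7 = 7 := by
    rw [hm, Nat.factorization_mul (by norm_num) hm0, Nat.Prime.factorization_pow (by norm_num)]
    rw [Finsupp.add_apply, Finsupp.single_eq_same, Nat.factorization_eq_zero_of_not_dvd hm7]
    norm_num
  let P : Sylow 7 G := Sylow.ofCard (zpowers t) (by rw [Nat.card_zpowers, ht, hfac])
  let Q : Sylow 7 G := Sylow.ofCard (zpowers y) (by rw [Nat.card_zpowers, hy, hfac])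
  obtain ⟨k, hk⟩ := MulAction.exists_smul_eq G P Q
  have h1 : k⁻¹ * y * k ∈ zpowers t := by
    have h2 : y ∈ ((k • P : Sylow 7 G) : Subgroup G) := by
      rw [hk]
      exact mem_zpowers y
    rw [Sylow.coe_subgroup_smul, mem_pointwise_smul_iff_inv_smul_mem] at h2
    have h3 : (MulAut.conj k)⁻¹ y = k⁻¹ * y * k := MulAut.conj_inv_apply k y
    rw [← h3]
    exact h2
  have h7 : t ^ 7 = 1 := by rw [← ht]; exact pow_orderOf_eq_one t
  obtain ⟨j, hj7, hj⟩ : ∃ j : ℕ, j < 7 ∧ t ^ j = k⁻¹ * y * k := by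
    obtain ⟨j, hj⟩ := (mem_zpowers_iff_mem_range_orderOf.1 h1 : _) |> Finset.mem_image.1
    exact ⟨j, by simpa [ht] using hj.1, hj.2⟩
  have hc : IsConj (t ^ j) y := by
    rw [hj]
    exact isConj_iff.2 ⟨k, by group⟩
  have step : ∀ i : ℕ, IsConj (t ^ i) (t ^ (3 * i)) := by
    intro i
    refine isConj_iff.2 ⟨w, ?_⟩
    have h3 : w * t * w⁻¹ = t ^ 3 := by
      rw [hw, mul_inv_cancel_right, pow_succ', pow_two]
    rw [← conj_pow, h3, ← pow_mul]
  have red : ∀ i l : ℕ, i % 7 = l % 7 → t ^ i = t ^ l := by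
    intro i l h
    rw [← pow_mod_orderOf, ht, h, ← pow_mod_orderOf t l, ht]
  have c1 : IsConj t (t ^ 3) := by simpa using step 1
  have c3 : IsConj (t ^ 3) (t ^ 2) := by
    rw [← red (3 * 3) 2 (by norm_num)]
    exact step 3
  have c2 : IsConj (t ^ 2) (t ^ 6) := step 2
  have c6 : IsConj (t ^ 6) (t ^ 4) := by
    rw [← red (3 * 6) 4 (by norm_num)]
    exact step 6
  have c4 : IsConj (t ^ 4) (t ^ 5) := by
    rw [← red (3 * 4) 5 (by norm_num)]
    exact step 4
  have hj0 : j ≠ 0 := by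
    rintro rfl
    rw [pow_zero] at hc
    have h2 : y = 1 := (isConj_one_right.1 hc)
    rw [h2, orderOf_one] at hy
    norm_num at hy
  have e2 := c1.trans c3
  have e6 := e2.trans c2
  have e4 := e6.trans c6
  have e5 := e4.trans c4
  have key : IsConj t (t ^ j) := by
    obtain rfl | rfl | rfl | rfl | rfl | rfl : j = 1 ∨ j = 2 ∨ j = 3 ∨ j = 4 ∨ j = 5 ∨ j = 6 := by omega
    · rw [pow_one]
    · exact e2
    · exact c1
    · exact e4
    · exact e5
    · exact e6
  exact key.trans hc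

open Cfsg Cfsg.Agent.Fischer.Group22 Cfsg.Agent.H821.K547 FiTwo in
theorem ginv3_model {τ : MulAut G} (hτ : TwoPow τ) : GInv3 τ := by
  have hfin : Finite G := finG
  obtain ⟨χ, hχ⟩ := exists_chi
  have h7 : orderOf t7 = 7 := by
    have : Fact (Nat.Prime 7) := ⟨by norm_num⟩
    refine orderOf_eq_prime t7_pow fun h => ?_
    have h1 := chi_t7 hχ
    rw [h, chi_one hχ] at h1
    norm_num at h1
  have hcard := Cfsg.Agent.Fischer.Order22.card_G
  refine H825.K547.ginv3_of_par ?_ hτ (chi_good hχ) (fun x => chi_inv hχ τ x) (t := t7) ?_ ?_ (n := 2) even_two ?_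
  · rw [hcard]
    decide
  · rw [h7]
    decide
  · exact isConj_seven (m := 9223107379200) h7 w7_conj (by rw [hcard]; norm_num) (by norm_num) (by
      rw [MulEquiv.orderOf_eq, h7])
  · rw [chi_t7 hχ]
    norm_num

end Cfsg.Agent.H281.K547
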