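import Cfsg.Agent.H281.K547.FiTwoInv
import Cfsg.Agent.H281.K547.FiTwoD
import Cfsg.Agent.H845.K547.Jordan
import Cfsg.Agent.SporRec.Fi22Iso
import Cfsg.Agent.S2079
import Cfsg.Agent.S1696

/-!
# S4547, the row `Fi22` (helper281)
-/

set_option autoImplicit false

namespace Cfsg.Agent.H281.K547

open Subgroup Cfsg Cfsg.Agent.H821.K547 Cfsg.Agent.H601.K4

universe u

theorem ginv3_fi22 {S : Type u} [Group S] (h : Spor.IsoFi22 S) {τ : MulAut S} (hτ : TwoPow τ) : GInv3 τ := by
  obtain ⟨e⟩ := h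
  let e' : S ≃* Cfsg.Agent.Fischer.Group22.G := e.trans Cfsg.Agent.SporRec.Fi22Iso.ψe
  have hfin : Finite Cfsg.Agent.Fischer.Group22.G := FiTwo.finG
  exact H834.K547.gInv3_of_equiv e' (fun x => H834.K547.tr_apply e' τ x)
    (ginv3_model (H834.K547.TwoPow.tr e' hτ))

theorem sq_inner {S : Type u} [Group S] (h : Spor.IsoFi22 S) (τ : MulAut S) :
    ∃ s : S, ∀ x, (τ ^ 2) x = s * x * s⁻¹ := by
  obtain ⟨e⟩ := h
  have h2 : ((H834.K547.tr e τ) ^ 2 : MulAut Spor.Fi22) ∈ Inn Spor.Fi22 := by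
    have h3 : (QuotientGroup.mk (H834.K547.tr e τ) : Out Spor.Fi22) ^ 2 = 1 := by
      rw [← S2079.result]
      exact pow_card_eq_one'
    rw [← QuotientGroup.mk_pow] at h3
    exact (QuotientGroup.eq_one_iff _).1 h3
  obtain ⟨s, hs⟩ := h2
  refine ⟨e.symm s, fun x => ?_⟩
  have h4 := DFunLike.congr_fun hs (e x)
  rw [H834.K547.tr_pow, e.symm_apply_apply] at h4
  apply e.injective
  rw [← h4]
  show s * e x * s⁻¹ = _
  rw [map_mul, map_mul, map_inv, e.apply_symm_apply]

theorem ext_fi22 {S : Type u} [Group S] (h : Spor.IsoFi22 S) {τ : MulAut S} (hτ : TwoPow τ) (hni : ¬ IsInn τ) :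
    ExtRow S τ := by
  have h' := h
  obtain ⟨e⟩ := h'
  have hs : IsSimpleGroup Spor.Fi22 := S1696.result.1
  have hS : IsSimpleGroup S := e.isSimpleGroup
  have hcard : Nat.card S = 64561751654400 := (Nat.card_congr e.toEquiv).trans S1696.result.2
  have hfin : Finite S := Nat.finite_of_card_ne_zero (by rw [hcard]; norm_num)
  have hna : ¬ IsMulCommutative S := by
    intro hcomm
    let _ : CommGroup S := { (inferInstance : Group S) with mul_comm := hcomm.is_comm.comm }
    have h1 : (Nat.card S).Prime := IsSimpleGroup.prime_card (α := S)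
    rw [hcard] at h1
    revert h1
    norm_num
  exact ⟨fun _ => H845.K547.d3_autExt hna (d3_fi22 h) (sq_inner h τ) hni, fun _ => ginv3_fi22 h hτ⟩

/-- **the row `Fi22`** from five good characters -/
theorem row_fi22_of {S : Type u} [Group S] (h : Spor.IsoFi22 S) (h5 : Good5 S) : Row S :=
  ⟨Or.inl ⟨h5, d3_fi22 h⟩, fun _ hτ hni => ext_fi22 h hτ hni⟩

end Cfsg.Agent.H281.K547
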